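import Cfsg.Agent.Lib.Coprime.Action

/-!
# Largest moved `2`-subgroups when the Sylow `2`-subgroup has class two

`S` is a Sylow `2`-subgroup of class at most two whose normalizer induces a `2`-group on it, and
`D ≤ S` is a `2`-subgroup of largest order having an automorphism of odd order induced in `G`.
Then `D` is centric, of index two in `S`, and every element of `S` outside `D` inverts the
elements of odd order of the normalizer of `D` modulo `D C(D)`.
-/

set_option autoImplicit false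

namespace CfsgLib.PGroup.CoprimeMax

open Subgroup CfsgLib.Coprime
open scoped commutatorElement

variable {G : Type*} [Group G]

/-- `D` admits a nontrivial action of an element of odd order. -/
def Moved (D : Subgroup G) : Prop :=
  ∃ g ∈ normalizer (D : Set G), Odd (orderOf g) ∧ g ∉ centralizer (D : Set G)

/-- A moved subgroup of `S` of largest order among all moved `2`-subgroups. -/
structure Wild (S D : Subgroup G) : Prop where
  le : D ≤ S
  moved : Moved D
  card_le : ∀ T : Subgroup G, IsPGroup 2 T → Moved T → Nat.card T ≤ Nat.card D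

theorem Moved.map {D : Subgroup G} (h : Moved D) (e : G ≃* G) :
    Moved (D.map e.toMonoidHom) := by
  obtain ⟨g, hg, hodd, hgc⟩ := h
  refine ⟨e g, ?_, by rwa [MulEquiv.orderOf_eq], fun hc => hgc (mem_centralizer_iff.2 fun u hu => ?_)⟩
  · rw [show normalizer (D.map e.toMonoidHom : Set G) = (normalizer (D : Set G)).map e.toMonoidHom from
      (map_equiv_normalizer_eq D e).symm]
    exact ⟨g, hg, rfl⟩
  · refine e.injective ?_
    rw [map_mul, map_mul]
    exact mem_centralizer_iff.1 hc (e u) ⟨u, hu, rfl⟩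

theorem pow_mul_inv_pow_mem {K : Subgroup G} {x k : G} (hx : x ∈ normalizer (K : Set G)) (hk : k ∈ K) :
    ∀ j : ℕ, (k * x) ^ j * (x ^ j)⁻¹ ∈ K := by
  intro j
  induction j with
  | zero => simp
  | succ j ih =>
    rw [show (k * x) ^ (j + 1) * (x ^ (j + 1))⁻¹ = (k * x) ^ j * (x ^ j)⁻¹ * (x ^ j * k * (x ^ j)⁻¹) by
      rw [pow_succ, pow_succ]; group]
    exact mul_mem ih ((mem_normalizer_iff.1 (pow_mem hx j) k).1 hk)

theorem mem_of_sq_mem {K : Subgroup G} {x : G} (hodd : Odd (orderOf x)) (h : x * x ∈ K) : x ∈ K := by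
  obtain ⟨k, hk⟩ := hodd
  have h1 : (x * x) ^ (k + 1) = x := by
    rw [← pow_two, ← pow_mul, show 2 * (k + 1) = orderOf x + 1 by omega, pow_succ, pow_orderOf_eq_one, one_mul]
  rw [← h1]; exact pow_mem h _

theorem commute_of_sq {x v : G} (hodd : Odd (orderOf x)) (h : Commute (x * x) v) : Commute x v := by
  have h1 := mem_of_sq_mem (K := centralizer ({v} : Set G)) hodd
    (mem_centralizer_iff.2 fun w hw => by rw [Set.mem_singleton_iff.1 hw]; exact h.eq.symm)
  exact (mem_centralizer_iff.1 h1 v rfl).symm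

theorem odd_orderOf_sq {x : G} (hodd : Odd (orderOf x)) : Odd (orderOf (x * x)) := by
  rw [← pow_two]
  exact hodd.of_dvd_nat (orderOf_pow_dvd 2)

variable [Finite G]

/-- An exponent projecting elements on their parts of odd order. -/
theorem exists_odd_exponent (n : ℕ) (hn : n ≠ 0) : ∃ e : ℕ, ∀ (H : Type*) [Group H] (h : H),
    orderOf h ∣ n → Odd (orderOf (h ^ e)) ∧ (Odd (orderOf h) → h ^ e = h) ∧
      ((∃ k, h ^ 2 ^ k = 1) → h ^ e = 1) ∧ ∃ k, ((h ^ e)⁻¹ * h) ^ 2 ^ k = 1 := by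
  have h2 : Nat.Prime 2 := Nat.prime_two
  set a := 2 ^ n.factorization 2 with ha
  set m := n / 2 ^ n.factorization 2 with hm
  have ham : a * m = n := Nat.ordProj_mul_ordCompl_eq_self n 2
  have hco : Nat.Coprime 2 m := Nat.coprime_ordCompl h2 hn
  have hmodd : Odd m := Nat.coprime_two_left.1 hco
  have hco' : Nat.Coprime a m := hco.pow_left _
  obtain ⟨e, he0, he1⟩ := Nat.chineseRemainder hco' 0 1
  refine ⟨e, fun H _ h hh => ?_⟩
  have hodd' : Odd (orderOf (h ^ e)) := by
    refine hmodd.of_dvd_nat (orderOf_dvd_of_pow_eq_one ?_)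
    rw [← pow_mul, ← orderOf_dvd_iff_pow_eq_one]
    refine hh.trans ?_
    rw [← ham]
    exact mul_dvd_mul_right (Nat.modEq_zero_iff_dvd.1 he0) m
  refine ⟨hodd', fun ho => ?_, fun ⟨k, hk⟩ => ?_, n.factorization 2, ?_⟩
  · have hdm : orderOf h ∣ m := by
      refine (Nat.Coprime.dvd_of_dvd_mul_left ?_ (ham ▸ hh))
      exact ((Nat.coprime_two_left.2 ho).pow_left _).symm
    calc h ^ e = h ^ 1 := pow_eq_pow_iff_modEq.2 (he1.of_dvd hdm)
      _ = h := pow_one h
  · have hda : orderOf h ∣ a := by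
      refine Nat.Coprime.dvd_of_dvd_mul_right ?_ (ham ▸ hh)
      exact Nat.Coprime.coprime_dvd_left (orderOf_dvd_of_pow_eq_one hk) (hco.pow_left k)
    exact orderOf_dvd_iff_pow_eq_one.1 (hda.trans (Nat.modEq_zero_iff_dvd.1 he0))
  · rw [← ha, (((Commute.refl h).pow_left e).inv_left).mul_pow, inv_pow, ← pow_mul, inv_mul_eq_one]
    refine pow_eq_pow_iff_modEq.2 (Nat.ModEq.of_dvd hh ?_)
    rw [← ham, mul_comm e a]
    simpa using Nat.ModEq.mul_left' a he1

variable {S D : Subgroup G}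

/-- Class at most two. -/
def ClassTwo (S : Subgroup G) : Prop := ∀ a ∈ S, ∀ b ∈ S, ∀ c ∈ S, Commute ⁅a, b⁆ c

theorem Wild.not_moved (hW : Wild S D) {T : Subgroup G} (hT : IsPGroup 2 T) (hlt : D < T) :
    ¬ Moved T := fun hm => by
  exact hlt.ne (eq_of_le_of_card_ge hlt.le (hW.card_le T hT hm))

/-- The Frattini argument behind all local facts. -/
theorem Wild.mem_centralizer_of_normalizes (hW : Wild S D) {Y R : Subgroup G}
    (hCY : centralizer (D : Set G) ≤ Y) (hYN : Y ≤ normalizer (D : Set G))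
    (hR : IsPGroup 2 R) (hRY : R ≤ Y) (hDR : D < R)
    (hY : ∀ z ∈ Y, Odd (orderOf z) → z ∈ centralizer (D : Set G))
    {y : G} (hy : y ∈ normalizer (D : Set G)) (hodd : Odd (orderOf y))
    (hyY : y ∈ normalizer (Y : Set G)) : y ∈ centralizer (D : Set G) := by
  haveI : Fact (Nat.Prime 2) := ⟨Nat.prime_two⟩
  obtain ⟨P, hP⟩ := (hR.comap_subtype : IsPGroup 2 (R.subgroupOf Y)).exists_le_sylow
  have hT := isSylowIn_map P
  set T := (P : Subgroup Y).map Y.subtype
  have hDT : D < T := lt_of_lt_of_le hDR fun r hr => ⟨⟨r, hRY hr⟩, hP hr, rfl⟩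
  obtain ⟨k, hk, hkT⟩ := hT.exists_conj (hT.conjBy hyY)
  set n := k⁻¹ * y with hn
  have hnT : n ∈ normalizer (T : Set G) := by
    rw [← conjBy_eq_self_iff, hn, ← conjBy_conjBy, ← hkT, conjBy_conjBy, inv_mul_cancel]
    exact conjBy_eq_self_iff.2 (one_mem _)
  obtain ⟨e, he⟩ := exists_odd_exponent (Nat.card G) Nat.card_pos.ne'
  obtain ⟨hno, -, -, -⟩ := he G n (orderOf_dvd_natCard n)
  have hnc : n ^ e ∈ centralizer (D : Set G) := by
    by_contra hc
    exact hW.not_moved hT.isPGroup hDT ⟨n ^ e, pow_mem hnT e, hno, fun hc' =>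
      hc (centralizer_le (SetLike.coe_subset_coe.2 hDT.le) hc')⟩
  have h1 := pow_mul_inv_pow_mem hyY (inv_mem hk) e
  rw [← hn, (he G y (orderOf_dvd_natCard y)).2.1 hodd] at h1
  refine hY y ?_ hodd
  rw [show y = (n ^ e * y⁻¹)⁻¹ * n ^ e by group]
  exact mul_mem (inv_mem h1) (hCY hnc)

/-- Elements of odd order of `R C(D)` for a `2`-group `R` normalizing `D` centralize `D`. -/
theorem mem_centralizer_of_mem_sup {R : Subgroup G} (hR : IsPGroup 2 R)
    (hRN : R ≤ normalizer (D : Set G)) {z : G} (hz : z ∈ centralizer (D : Set G) ⊔ R)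
    (hodd : Odd (orderOf z)) : z ∈ centralizer (D : Set G) := by
  have hRC : R ≤ normalizer (centralizer (D : Set G) : Set G) :=
    hRN.trans (normalizer_le_normalizer_centralizer D)
  obtain ⟨c, hc, r, hr, rfl⟩ := mem_sup_exists hRC hz
  obtain ⟨e, he⟩ := exists_odd_exponent (Nat.card G) Nat.card_pos.ne'
  have h1 := pow_mul_inv_pow_mem (hRC hr) hc e
  rw [(he G _ (orderOf_dvd_natCard _)).2.1 hodd, (he G r (orderOf_dvd_natCard _)).2.2.1
    (by obtain ⟨k, hk⟩ := hR ⟨r, hr⟩; exact ⟨k, congrArg Subtype.val hk⟩), inv_one, mul_one] at h1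
  exact h1

theorem sup_le_normalizer_of_le {R : Subgroup G} (hRN : R ≤ normalizer (D : Set G)) :
    centralizer (D : Set G) ⊔ R ≤ normalizer (D : Set G) :=
  sup_le (centralizer_le_normalizer _) hRN

/-- The subgroup `D` is centric. -/
theorem Wild.mem_of_commute (hW : Wild S D) (hS : IsPGroup 2 S) {u : G} (hu : u ∈ S)
    (hc : u ∈ centralizer (D : Set G)) : u ∈ D := by
  by_contra hu'
  have hRS : D ⊔ zpowers u ≤ S := sup_le hW.le (zpowers_le.2 hu)
  have hR : IsPGroup 2 (D ⊔ zpowers u : Subgroup G) := hS.to_le hRS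
  have hRN : D ⊔ zpowers u ≤ normalizer (D : Set G) :=
    sup_le le_normalizer (zpowers_le.2 (centralizer_le_normalizer _ hc))
  have hDR : D < D ⊔ zpowers u := lt_of_le_of_ne le_sup_left fun e =>
    hu' (e ▸ mem_sup_right (mem_zpowers u))
  obtain ⟨g, hg, hodd, hgc⟩ := hW.moved
  set Y := centralizer (D : Set G) ⊔ D
  have hYR : D ⊔ zpowers u ≤ Y := sup_le le_sup_right (zpowers_le.2 (mem_sup_left hc))
  refine hgc (hW.mem_centralizer_of_normalizes le_sup_left (sup_le_normalizer_of_le le_normalizer) hR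
    hYR hDR (fun z hz hz' => mem_centralizer_of_mem_sup (hS.to_le hW.le) le_normalizer hz hz') hg hodd ?_)
  exact sup_le_normalizer (le_refl _ |>.trans (normalizer_le_normalizer_centralizer D)) (le_refl _) hg

variable (hW : Wild S D) (hS : IsPGroup 2 S) (hcl : ClassTwo S)
include hW hS hcl

theorem Wild.commutator_mem {a b : G} (ha : a ∈ S) (hb : b ∈ S) : ⁅a, b⁆ ∈ D := by
  refine hW.mem_of_commute hS ?_ (mem_centralizer_iff.2 fun u hu => (hcl a ha b hb u (hW.le hu)).eq.symm)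
  rw [_root_.commutatorElement_def]
  exact mul_mem (mul_mem (mul_mem ha hb) (inv_mem ha)) (inv_mem hb)

theorem Wild.commutator_mem_centralizer {a b : G} (ha : a ∈ S) (hb : b ∈ S) :
    ⁅a, b⁆ ∈ centralizer (D : Set G) :=
  mem_centralizer_iff.2 fun u hu => (hcl a ha b hb u (hW.le hu)).eq.symm

theorem Wild.le_normalizer_left : S ≤ normalizer (D : Set G) := by
  intro s hs
  have h : ∀ s ∈ S, ∀ v ∈ D, s * v * s⁻¹ ∈ D := fun s hs v hv => by
    rw [show s * v * s⁻¹ = ⁅s, v⁆ * v by rw [_root_.commutatorElement_def]; group]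
    exact mul_mem (hW.commutator_mem hS hcl hs (hW.le hv)) hv
  refine mem_normalizer_iff.2 fun v => ⟨h s hs v, fun hv => ?_⟩
  simpa [mul_assoc] using h _ (inv_mem hs) _ hv

/-- Conjugation of `D` by an element of `S` outside `D` cannot be normalized modulo `D C(D)` by a
nontrivial element of odd order. -/
theorem Wild.eq_of_fixed {s : G} (hs : s ∈ S) (hsD : s ∉ D) {y : G} (hy : y ∈ normalizer (D : Set G))
    (hodd : Odd (orderOf y)) (hys : y * s * y⁻¹ * s⁻¹ ∈ centralizer (D : Set G) ⊔ D) :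
    y ∈ centralizer (D : Set G) := by
  set R := D ⊔ zpowers s
  have hRS : R ≤ S := sup_le hW.le (zpowers_le.2 hs)
  have hRN : R ≤ normalizer (D : Set G) := hRS.trans (hW.le_normalizer_left hS hcl)
  have hDR : D < R := lt_of_le_of_ne le_sup_left fun e => hsD (e ▸ mem_sup_right (mem_zpowers s))
  refine hW.mem_centralizer_of_normalizes (Y := centralizer (D : Set G) ⊔ R) le_sup_left
    (sup_le_normalizer_of_le hRN) (hS.to_le hRS) le_sup_right hDR
    (fun z hz hz' => mem_centralizer_of_mem_sup (hS.to_le hRS) hRN hz hz') hy hodd ?_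
  rw [← conjBy_eq_self_iff]
  refine eq_of_le_of_card_ge ?_ (by rw [card_conjBy])
  refine map_le_iff_le_comap.2 (sup_le ?_ (sup_le ?_ (zpowers_le.2 ?_)))
  · intro c hc
    exact mem_sup_left ((mem_normalizer_iff.1 (normalizer_le_normalizer_centralizer D hy) c).1 hc)
  · intro v hv
    exact mem_sup_right (mem_sup_left ((mem_normalizer_iff.1 hy v).1 hv))
  · show y * s * y⁻¹ ∈ centralizer (D : Set G) ⊔ R
    rw [show y * s * y⁻¹ = y * s * y⁻¹ * s⁻¹ * s by group]
    exact mul_mem ((sup_le_sup_left (le_sup_left : D ≤ R) (centralizer (D : Set G))) hys) (mem_sup_right (mem_sup_right (mem_zpowers s)))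

variable (hNS : ∀ g ∈ normalizer (S : Set G), Odd (orderOf g) → g ∈ centralizer (S : Set G))
  (hsyl : ∀ T : Subgroup G, IsPGroup 2 T → Nat.card T ≤ Nat.card S)
include hNS hsyl

/-- An element of `S` of order two modulo `D C(D)` inverts the elements of odd order. -/
theorem Wild.inverts_of_sq_mem {t : G} (ht : t ∈ S) (htD : t ∉ D) (ht2 : t * t ∈ D) {x : G}
    (hx : x ∈ normalizer (D : Set G)) (hxo : Odd (orderOf x)) :
    t * x * t⁻¹ * x ∈ centralizer (D : Set G) ⊔ D := by
  haveI : Fact (Nat.Prime 2) := ⟨Nat.prime_two⟩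
  set L := normalizer (D : Set G) with hL
  have hSL : S ≤ L := hW.le_normalizer_left hS hcl
  set C0 := centralizer (D : Set G) ⊔ D with hC0
  have hC0L : C0 ≤ L := sup_le_normalizer_of_le le_normalizer
  have hLC0 : L ≤ normalizer (C0 : Set G) :=
    sup_le_normalizer (normalizer_le_normalizer_centralizer D) le_rfl
  haveI : (C0.subgroupOf L).Normal := (normal_subgroupOf_iff_le_normalizer hC0L).2 hLC0
  set π := QuotientGroup.mk' (C0.subgroupOf L) with hπ
  have hπ1 : ∀ z : L, π z = 1 ↔ (z : G) ∈ C0 := fun z => QuotientGroup.eq_one_iff z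
  have hSsyl : ∀ T : Subgroup G, IsPGroup 2 T → S ≤ T → T = S := fun T hT hle =>
    (eq_of_le_of_card_ge hle (hsyl T hT)).symm
  let SG : Sylow 2 G := ⟨S, hS, fun hT hle => hSsyl _ hT hle⟩
  let SL : Sylow 2 L := SG.subtype hSL
  let Pb := SL.mapSurjective (QuotientGroup.mk'_surjective (C0.subgroupOf L))
  obtain ⟨e, he⟩ := exists_odd_exponent (Nat.card G) Nat.card_pos.ne'
  have hdvdL : ∀ z : L, orderOf z ∣ Nat.card G := fun z => by
    rw [← Subgroup.orderOf_coe]; exact orderOf_dvd_natCard _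
  have hdvdQ : ∀ q : L ⧸ C0.subgroupOf L, orderOf q ∣ Nat.card G := fun q => by
    obtain ⟨z, rfl⟩ := QuotientGroup.mk'_surjective _ q
    exact (orderOf_map_dvd _ z).trans (hdvdL z)
  -- the image of `S` is abelian and self-centralizing
  have habel : ∀ a b : L, (a : G) ∈ S → (b : G) ∈ S → π a * π b = π b * π a := by
    intro a b ha hb
    rw [← commutatorElement_eq_one_iff_mul_comm, ← map_commutatorElement, hπ1]
    exact mem_sup_right (hW.commutator_mem hS hcl ha hb)
  have hNC : normalizer Pb ≤ centralizer (Pb : Set (L ⧸ C0.subgroupOf L)) := by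
    intro q hq
    obtain ⟨n, rfl⟩ := QuotientGroup.mk'_surjective _ q
    set Y := C0 ⊔ S
    have hYL : Y ≤ L := sup_le hC0L hSL
    have hnS : conjBy (n : G) S ≤ Y := by
      rintro _ ⟨s, hs, rfl⟩
      have h1 := (mem_normalizer_iff.1 hq (π ⟨s, hSL hs⟩)).1
        (show π ⟨s, hSL hs⟩ ∈ (Pb : Subgroup _) from ⟨⟨s, hSL hs⟩, hs, rfl⟩)
      obtain ⟨s', hs', h2⟩ := h1
      rw [← map_inv, ← map_mul, ← map_mul] at h2
      have h3 := QuotientGroup.eq.1 h2
      show (n : G) * s * (n : G)⁻¹ ∈ Y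
      rw [show (n : G) * s * (n : G)⁻¹ = (s' : G) * ((s' : G)⁻¹ * ((n : G) * s * (n : G)⁻¹)) by group]
      exact mul_mem (mem_sup_right hs') (mem_sup_left h3)
    have hSY : IsSylowIn 2 S Y := by
      have h1 := isSylowIn_map (SG.subtype (le_sup_right : S ≤ Y))
      rwa [Sylow.coe_subtype, map_subgroupOf_eq_of_le (le_sup_right : S ≤ Y)] at h1
    obtain ⟨k, hk, hkS⟩ := hSY.exists_conj (Q := conjBy (n : G) S) ⟨hnS, by rw [card_conjBy]; exact hSY.2⟩
    set m := k⁻¹ * (n : G) with hm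
    have hmS : m ∈ normalizer (S : Set G) := by
      rw [← conjBy_eq_self_iff, hm, ← conjBy_conjBy, ← hkS, conjBy_conjBy, inv_mul_cancel]
      exact conjBy_eq_self_iff.2 (one_mem _)
    obtain ⟨hmo, -, -, j, hj⟩ := he G m (orderOf_dvd_natCard m)
    set w := (m ^ e)⁻¹ * m with hw
    have hwS : w ∈ S := by
      have hwN : w ∈ normalizer (S : Set G) := mul_mem (inv_mem (pow_mem hmS e)) hmS
      have hp : IsPGroup 2 (zpowers w) := by
        intro z
        obtain ⟨i, hi⟩ := mem_zpowers_iff.1 z.2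
        refine ⟨j, Subtype.ext ?_⟩
        rw [SubmonoidClass.coe_pow, ← hi, ← zpow_natCast, ← zpow_mul, mul_comm, zpow_mul, zpow_natCast,
          hj, one_zpow]
        rfl
      have h1 := (hp.inf_normalizer_sylow SG).le ⟨mem_zpowers w, hwN⟩
      exact h1.2
    have hnmem : (n : G) ∈ (C0 ⊔ S) ⊔ centralizer (S : Set G) := by
      rw [show (n : G) = k * (m ^ e * w) by rw [hw, hm]; group]
      exact mul_mem (mem_sup_left hk) (mul_mem (mem_sup_right (hNS _ (pow_mem hmS e) hmo))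
        (mem_sup_left (mem_sup_right hwS)))
    -- everything in `C0 S C(S)` commutes with the image of `S`
    have hle : (C0 ⊔ S) ⊔ centralizer (S : Set G) ≤
        (((centralizer (Pb : Set (L ⧸ C0.subgroupOf L))).comap π).map L.subtype) := by
      have hCS : centralizer (S : Set G) ≤ L :=
        (centralizer_le (SetLike.coe_subset_coe.2 hW.le)).trans (centralizer_le_normalizer _)
      refine sup_le (sup_le (fun z hz => ?_) (fun z hz => ?_)) (fun z hz => ?_)
      · refine ⟨⟨z, hC0L hz⟩, mem_centralizer_iff.2 fun q _ => ?_, rfl⟩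
        rw [(hπ1 ⟨z, hC0L hz⟩).2 hz, one_mul, mul_one]
      · refine ⟨⟨z, hSL hz⟩, mem_centralizer_iff.2 ?_, rfl⟩
        rintro _ ⟨s, hs, rfl⟩
        exact habel s ⟨z, hSL hz⟩ hs hz
      · refine ⟨⟨z, hCS hz⟩, mem_centralizer_iff.2 ?_, rfl⟩
        rintro _ ⟨s, hs, rfl⟩
        rw [← map_mul, ← map_mul]
        exact congrArg π (Subtype.ext (mem_centralizer_iff.1 hz (s : G) hs))
    obtain ⟨n', hn', hnn⟩ := hle hnmem
    rwa [show n' = n from Subtype.ext hnn] at hn'
  set K := (MonoidHom.transferSylow Pb hNC).ker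
  have hKodd : Odd (Nat.card K) := by
    rw [← Nat.coprime_two_left]
    exact (Nat.prime_two.coprime_iff_not_dvd).2 (MonoidHom.not_dvd_card_ker_transferSylow Pb hNC)
  have hmemK : ∀ q : L ⧸ C0.subgroupOf L, Odd (orderOf q) → q ∈ K := by
    intro q hq
    rw [MonoidHom.mem_ker, ← orderOf_eq_one_iff]
    obtain ⟨j, hj⟩ := IsPGroup.iff_orderOf.1 Pb.2 (MonoidHom.transferSylow Pb hNC q)
    refine Nat.eq_one_of_dvd_coprimes ((Nat.coprime_two_left.2 hq).pow_left j) ?_ (orderOf_map_dvd _ q)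
    rw [hj]
  set T : L ⧸ C0.subgroupOf L := π ⟨t, hSL ht⟩ with hT
  have hTT : T * T = 1 := by
    rw [hT, ← map_mul, hπ1]; exact mem_sup_right ht2
  haveI : K.Normal := MonoidHom.normal_ker _
  set f : MulAut K := MulAut.conjNormal T
  have hfpf : MonoidHom.FixedPointFree f := by
    intro k hk
    have hko : Odd (orderOf (k : L ⧸ C0.subgroupOf L)) := by
      rw [Subgroup.orderOf_coe]; exact hKodd.of_dvd_nat (orderOf_dvd_natCard k)
    obtain ⟨n, hn⟩ := QuotientGroup.mk'_surjective (C0.subgroupOf L) (k : L ⧸ C0.subgroupOf L)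
    obtain ⟨hyo, -, -, -⟩ := he G (n : G) (orderOf_dvd_natCard _)
    have hπy : π (n ^ e) = k := by
      rw [map_pow, hπ, hn, (he _ _ (hdvdQ _)).2.1 hko]
    have hcomm : T * (k : L ⧸ C0.subgroupOf L) * T⁻¹ = k :=
      (MulAut.conjNormal_apply T k).symm.trans (congrArg Subtype.val hk)
    have h1 : π (n ^ e * ⟨t, hSL ht⟩ * (n ^ e)⁻¹ * ⟨t, hSL ht⟩⁻¹) = 1 := by
      simp only [map_mul, map_inv, hπy, ← hT]
      calc (k : L ⧸ C0.subgroupOf L) * T * (k : L ⧸ C0.subgroupOf L)⁻¹ * T⁻¹ =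
          k * (T * (k : L ⧸ C0.subgroupOf L) * T⁻¹)⁻¹ := by group
        _ = 1 := by rw [hcomm, mul_inv_cancel]
    rw [hπ1] at h1
    have h2 := hW.eq_of_fixed hS hcl ht htD (pow_mem n.2 e) hyo h1
    refine Subtype.ext ?_
    show (k : L ⧸ C0.subgroupOf L) = 1
    rw [← hπy, hπ1]
    exact mem_sup_left h2
  have hinv : Function.Involutive f := fun k => Subtype.ext (by
    rw [MulAut.conjNormal_apply, MulAut.conjNormal_apply]
    calc T * (T * (k : L ⧸ C0.subgroupOf L) * T⁻¹) * T⁻¹ = (T * T) * k * (T * T)⁻¹ := by group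
      _ = k := by rw [hTT]; simp)
  have hxK : π ⟨x, hx⟩ ∈ K := hmemK _ (hxo.of_dvd_nat ((orderOf_map_dvd π (⟨x, hx⟩ : L)).trans
    (by rw [Subgroup.orderOf_mk])))
  have h1 := congrArg Subtype.val (congrFun (hfpf.coe_eq_inv_of_involutive hinv) ⟨π ⟨x, hx⟩, hxK⟩)
  rw [MulAut.conjNormal_apply] at h1
  have h2 : π (⟨t, hSL ht⟩ * ⟨x, hx⟩ * ⟨t, hSL ht⟩⁻¹ * ⟨x, hx⟩) = 1 := by
    simp only [map_mul, map_inv, ← hT]
    rw [h1]
    simp
  exact (hπ1 _).1 h2

omit hcl hsyl in
/-- `D` is a proper subgroup of `S`. -/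
theorem Wild.exists_not_mem : ∃ s ∈ S, s ∉ D := by
  by_contra h
  push Not at h
  obtain ⟨g, hg, hodd, hgc⟩ := hW.moved
  rw [le_antisymm hW.le h] at hg hgc
  exact hgc (hNS g hg hodd)

theorem Wild.exists_inverting : ∃ t ∈ S, t ∉ D ∧ t * t ∈ D := by
  obtain ⟨s, hs, hsD⟩ := hW.exists_not_mem hS hNS
  obtain ⟨k, hk⟩ := hS ⟨s, hs⟩
  have hk' : s ^ 2 ^ k ∈ D := by
    rw [show s ^ 2 ^ k = 1 from congrArg Subtype.val hk]; exact one_mem D
  clear hk
  induction k with
  | zero => exact absurd (by simpa using hk') hsD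
  | succ k ih =>
    by_cases h : s ^ 2 ^ k ∈ D
    · exact ih h
    · exact ⟨s ^ 2 ^ k, pow_mem hs _, h, by rw [← pow_two, ← pow_mul, ← pow_succ]; exact hk'⟩

end CfsgLib.PGroup.CoprimeMax
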