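import Cfsg.Agent.Lib.PGroup.CoprimeMax.Pairs
import Cfsg.Agent.Lib.Fusion.PComplement


/-!
# Partners

If a group `A` of odd order stabilizes a Sylow `2`-subgroup `S` of class at most two and normalizers
of invariant normal subgroups of `S` induce `2`-groups on `S`, then `G` has a normal `2`-complement:
otherwise the partner relation is a fixed-point-free involution on an `A`-orbit of largest moved
subgroups, which has odd length.
-/

set_option autoImplicit false

namespace CfsgLib.PGroup.CoprimeMax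

open Subgroup CfsgLib.Coprime
open scoped commutatorElement

variable {G : Type*} [Group G]

/-- Some commutator of `D` with an odd element of its normalizer lies outside `D'`. -/
def Part (D D' : Subgroup G) : Prop :=
  ∃ x ∈ normalizer (D : Set G), Odd (orderOf x) ∧ ∃ v ∈ D, ⁅x, v⁆ ∉ D'

variable [Finite G] {S D D' D'' : Subgroup G} (hS : IsPGroup 2 S) (hcl : ClassTwo S)
  (hNS : ∀ g ∈ normalizer (S : Set G), Odd (orderOf g) → g ∈ centralizer (S : Set G))
  (hsyl : ∀ T : Subgroup G, IsPGroup 2 T → Nat.card T ≤ Nat.card S)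
include hS hcl hNS hsyl

theorem Part.reverse (h : Part D D') (hW : Wild S D) (hW' : Wild S D') {x : G}
    (hx : x ∈ normalizer (D' : Set G)) (hxo : Odd (orderOf x))
    (hxc : x ∉ centralizer (D' : Set G)) : ∃ v ∈ D', ⁅x, v⁆ ∉ D := by
  by_contra hall
  push Not at hall
  obtain ⟨x₀, hx₀, hx₀o, v₀, hv₀, hb⟩ := h
  obtain ⟨hbD, hbc⟩ := hW.commutator_central hS hcl hNS hsyl hx₀ hx₀o hv₀
  set b := ⁅x₀, v₀⁆
  obtain ⟨d, hd, hinv⟩ := hW'.inverts_apply hS hcl hNS hsyl (hW.le hbD) hb hx hxo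
  refine hxc (mem_centralizer_iff.2 fun v hv => ?_)
  obtain ⟨hu', huc⟩ := hW'.commutator_central hS hcl hNS hsyl hx hxo hv
  set u := ⁅x, v⁆ with hu
  have huD : u ∈ D := hall v hv
  have hxu : x * u * x⁻¹ ∈ D := by
    rw [conj_eq_commutator_mul]; exact mul_mem (hall u hu') huD
  have h1 : b * x * b⁻¹ * u * (b * x * b⁻¹)⁻¹ = x * u * x⁻¹ := by
    calc b * x * b⁻¹ * u * (b * x * b⁻¹)⁻¹ = b * x * (b⁻¹ * u * b) * x⁻¹ * b⁻¹ := by group
      _ = b * (x * u * x⁻¹) * b⁻¹ := by
          rw [(commute_of_mem_centralizer (inv_mem hbc) huD).eq, inv_mul_cancel_right]; group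
      _ = x * u * x⁻¹ := by rw [(commute_of_mem_centralizer hbc hxu).eq, mul_inv_cancel_right]
  have h2 : d * (x⁻¹ * u * x) * d⁻¹ = x⁻¹ * u * x := by
    have h3 : x⁻¹ * u * x ∈ centralizer (D' : Set G) := by
      simpa using (mem_normalizer_iff.1 (normalizer_le_normalizer_centralizer D' (inv_mem hx)) u).1 huc
    rw [← (commute_of_mem_centralizer h3 hd).eq, mul_inv_cancel_right]
  have h3 : x * u * x⁻¹ = x⁻¹ * u * x := by rw [← h1, hinv u hu', h2]
  have h4 : Commute (x * x) u := by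
    calc x * x * u = x * (x * u * x⁻¹) * x := by group
      _ = x * (x⁻¹ * u * x) * x := by rw [h3]
      _ = u * (x * x) := by group
  have h5 := commutator_eq_one_of_fixed (hS.to_le hW'.le) hxo hu' (commute_of_sq hxo h4)
  exact (commutatorElement_eq_one_iff_commute.1 h5).eq.symm

theorem Part.symm (h : Part D D') (hW : Wild S D) (hW' : Wild S D') : Part D' D := by
  obtain ⟨g, hg, hgo, hgc⟩ := hW'.moved
  obtain ⟨v, hv, hv'⟩ := h.reverse hS hcl hNS hsyl hW hW' hg hgo hgc
  exact ⟨g, hg, hgo, v, hv, hv'⟩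

omit hS hcl hNS hsyl in
theorem mem_iff_of_index_two {S D : Subgroup G} (h : ∀ u ∈ S, ∀ v ∈ S, u ∉ D → v ∉ D → u⁻¹ * v ∈ D)
    {u : G} (hu : u ∈ S) : u * u ∈ D := by
  by_cases hu' : u ∈ D
  · exact mul_mem hu' hu'
  · simpa using h u⁻¹ (inv_mem hu) u hu (fun hh => hu' (inv_mem_iff.1 hh)) hu'

/-- Odd elements of the normalizer centralize the squares of a partnered subgroup. -/
theorem Part.commute_sq (h : Part D D') (hW : Wild S D) (hW' : Wild S D') {x : G}
    (hx : x ∈ normalizer (D : Set G)) (hxo : Odd (orderOf x)) {v : G} (hv : v ∈ D) :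
    Commute x (v * v) := by
  obtain ⟨x', hx', hx'o, w', hw', hb⟩ := h.symm hS hcl hNS hsyl hW hW'
  obtain ⟨hbD', hbc⟩ := hW'.commutator_central hS hcl hNS hsyl hx' hx'o hw'
  set b := ⁅x', w'⁆
  obtain ⟨d, hd, hinv⟩ := hW.inverts_apply hS hcl hNS hsyl (hW'.le hbD') hb hx hxo
  set w := v * v
  have hwD : w ∈ D := mul_mem hv hv
  have hwD' : w ∈ D' := hW'.sq_mem hS hcl hNS hsyl (hW.le hv)
  have hxv : x * v * x⁻¹ ∈ D := (mem_normalizer_iff.1 hx v).1 hv
  have hxw' : x * w * x⁻¹ ∈ D' := by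
    rw [show x * w * x⁻¹ = (x * v * x⁻¹) * (x * v * x⁻¹) by simp only [w]; group]
    exact hW'.sq_mem hS hcl hNS hsyl (hW.le hxv)
  have h1 : b * x * b⁻¹ * w * (b * x * b⁻¹)⁻¹ = x * w * x⁻¹ := by
    calc b * x * b⁻¹ * w * (b * x * b⁻¹)⁻¹ = b * x * (b⁻¹ * w * b) * x⁻¹ * b⁻¹ := by group
      _ = b * (x * w * x⁻¹) * b⁻¹ := by
          rw [(commute_of_mem_centralizer (inv_mem hbc) hwD').eq, inv_mul_cancel_right]; group
      _ = x * w * x⁻¹ := by rw [(commute_of_mem_centralizer hbc hxw').eq, mul_inv_cancel_right]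
  have hw1 : x⁻¹ * w * x ∈ D := by simpa using (mem_normalizer_iff.1 (inv_mem hx) w).1 hwD
  set f := ⁅d, x⁻¹ * w * x⁆
  have hfx : Commute x f := hW.commute_commutator hS hcl hNS hsyl hx hxo hd hw1
  have h2 : x * w * x⁻¹ = f * (x⁻¹ * w * x) := by
    rw [← h1, hinv w hwD, conj_eq_commutator_mul]
  have h3 : ⁅x * x, w⁆ = f := by
    calc ⁅x * x, w⁆ = x * (x * w * x⁻¹) * x⁻¹ * w⁻¹ := by
          simp only [_root_.commutatorElement_def]; group
      _ = (x * f) * (x⁻¹ * w * x) * x⁻¹ * w⁻¹ := by rw [h2]; group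
      _ = f := by rw [hfx.eq]; group
  have hxx := odd_orderOf_sq hxo
  have hfD : f ∈ D := hW.commutator_mem hS hcl (hW.le hd) (hW.le hw1)
  have h4 := commutator_eq_one_of_fixed (hS.to_le hW.le) hxx (h3 ▸ hfD)
    (h3.symm ▸ hfx.mul_left hfx)
  exact commute_of_sq hxo (commutatorElement_eq_one_iff_commute.1 h4)

/-- Commutators with odd elements have order at most two. -/
theorem Part.commutator_sq (h : Part D D') (hW : Wild S D) (hW' : Wild S D') {x : G}
    (hx : x ∈ normalizer (D : Set G)) (hxo : Odd (orderOf x)) {v : G} (hv : v ∈ D) :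
    ⁅x, v⁆ * ⁅x, v⁆ = 1 := by
  have hc := (hW.commutator_central hS hcl hNS hsyl hx hxo hv).2
  have h1 : ⁅x, v * v⁆ = 1 :=
    commutatorElement_eq_one_iff_commute.2 (h.commute_sq hS hcl hNS hsyl hW hW' hx hxo hv)
  rwa [show ⁅x, v * v⁆ = ⁅x, v⁆ * (v * ⁅x, v⁆ * v⁻¹) by simp only [_root_.commutatorElement_def]; group,
    ← (commute_of_mem_centralizer hc hv).eq, mul_inv_cancel_right] at h1

/-- Partnered data: the nontrivial commutator of `D` and `D'` is moved by `x`. -/
theorem Part.exists_moved (h : Part D D') (hW : Wild S D) (hW' : Wild S D') {x : G}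
    (hx : x ∈ normalizer (D : Set G)) (hxo : Odd (orderOf x))
    (hxc : x ∉ centralizer (D : Set G)) :
    ∃ a ∈ D, a ∉ D' ∧ a * a = 1 ∧ a ∈ centralizer (D : Set G) ∧
      ∀ b ∈ D', b ∉ D → b ∈ centralizer (D' : Set G) → ∀ w ∈ D, w ∉ D' → ¬ Commute x ⁅b, w⁆ := by
  obtain ⟨v, hv, hva'⟩ := (h.symm hS hcl hNS hsyl hW hW').reverse hS hcl hNS hsyl hW' hW hx hxo hxc
  obtain ⟨haD, hac⟩ := hW.commutator_central hS hcl hNS hsyl hx hxo hv
  have haa := h.commutator_sq hS hcl hNS hsyl hW hW' hx hxo hv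
  set a := ⁅x, v⁆ with ha
  refine ⟨a, haD, hva', haa, hac, fun b hb hbD hbc => ?_⟩
  have hbS := hW'.le hb
  have hidx := fun {u w : G} => @Wild.mul_mem_of_not_mem _ _ _ _ _ hS hcl hNS hsyl hW' u w
  -- every element of `D ∖ D'` has the same commutator with `b`
  have hgen : ∀ w ∈ D, w ∉ D' → ⁅b, w⁆ = ⁅b, a⁆ := by
    intro w hw hw'
    have hc' : a⁻¹ * w ∈ D' := hidx (hW.le haD) (hW.le hw) hva' hw'
    have h1 : Commute b (a⁻¹ * w) := commute_of_mem_centralizer hbc hc'
    rw [show ⁅b, w⁆ = ⁅b, a⁆ * (a * ⁅b, a⁻¹ * w⁆ * a⁻¹) by simp only [_root_.commutatorElement_def]; group,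
      commutatorElement_eq_one_iff_commute.2 h1]
    simp
  set z := ⁅b, a⁆ with hz
  have hzS : ∀ c ∈ S, Commute z c := hcl b hbS a (hW.le haD)
  have hzD : z ∈ D := hW.commutator_mem hS hcl hbS (hW.le haD)
  have hz1 : z ≠ 1 := by
    intro hz1
    have hab : Commute b a := commutatorElement_eq_one_iff_commute.1 hz1
    refine hva' (hW'.mem_of_commute hS (hW.le haD) (mem_centralizer_iff.2 fun w hw => ?_))
    by_cases hwD : w ∈ D
    · exact (commute_of_mem_centralizer hac hwD).eq.symm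
    · have hbw : b⁻¹ * w ∈ D := hW.mul_mem_of_not_mem hS hcl hNS hsyl hbS (hW'.le hw) hbD hwD
      have h1 : Commute a (b * (b⁻¹ * w)) := hab.symm.mul_right (commute_of_mem_centralizer hac hbw)
      rw [mul_inv_cancel_left] at h1
      exact h1.eq.symm
  have hbx : ¬ Commute x z := by
    intro hxz
    obtain ⟨d, hd, hinv⟩ := hW.inverts_apply hS hcl hNS hsyl hbS hbD hx hxo
    set a₁ := x * a * x⁻¹
    have ha₁ : a₁ ∈ D := (mem_normalizer_iff.1 hx a).1 haD
    have ha' : x⁻¹ * a * x ∈ centralizer (D : Set G) := by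
      simpa using (mem_normalizer_iff.1 (normalizer_le_normalizer_centralizer D (inv_mem hx)) a).1 hac
    have key : b * a₁ * b⁻¹ = z * (x⁻¹ * a * x) := by
      calc b * a₁ * b⁻¹ = b * x * b⁻¹ * (b * a * b⁻¹) * (b * x * b⁻¹)⁻¹ := by simp only [a₁]; group
        _ = d * (x⁻¹ * (z * a) * x) * d⁻¹ := by
            rw [conj_eq_commutator_mul b a, ← hz, hinv _ (mul_mem hzD haD)]
        _ = d * (z * (x⁻¹ * a * x)) * d⁻¹ := by
            rw [show x⁻¹ * (z * a) * x = x⁻¹ * z * (a * x) by group, hxz.inv_left.eq]; group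
        _ = z * (x⁻¹ * a * x) := by
            rw [← ((hzS d (hW.le hd)).mul_left (commute_of_mem_centralizer ha' hd)).eq, mul_inv_cancel_right]
    by_cases ha₁' : a₁ ∈ D'
    · rw [(commute_of_mem_centralizer hbc ha₁').eq, mul_inv_cancel_right] at key
      have h1 : ⁅x * x, a⁆ = z := by
        calc ⁅x * x, a⁆ = x * a₁ * x⁻¹ * a⁻¹ := by simp only [_root_.commutatorElement_def, a₁]; group
          _ = (x * z) * (x⁻¹ * a * x) * x⁻¹ * a⁻¹ := by rw [key]; group
          _ = z := by rw [hxz.eq]; group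
      refine hz1 ?_
      rw [← h1]
      exact commutator_eq_one_of_fixed (hS.to_le hW.le) (odd_orderOf_sq hxo) (h1.symm ▸ hzD)
        (h1.symm ▸ hxz.mul_left hxz)
    · rw [conj_eq_commutator_mul, hgen a₁ ha₁ ha₁', mul_left_cancel_iff] at key
      have h4 : Commute (x * x) a := by
        calc x * x * a = x * a₁ * x := by simp only [a₁]; group
          _ = x * (x⁻¹ * a * x) * x := by rw [key]
          _ = a * (x * x) := by group
      have h5 : a = 1 := commutator_eq_one_of_fixed (hS.to_le hW.le) hxo haD (commute_of_sq hxo h4)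
      exact hva' (h5 ▸ one_mem D')
  intro w hw hw'
  rwa [hgen w hw hw']

/-- Partners are unique. -/
theorem Part.unique (h' : Part D D') (h'' : Part D D'') (hW : Wild S D) (hW' : Wild S D')
    (hW'' : Wild S D'') : D' = D'' := by
  obtain ⟨x, hx, hxo, hxc⟩ := hW.moved
  obtain ⟨a, haD, haD', haa, hac, hz'⟩ := h'.exists_moved hS hcl hNS hsyl hW hW' hx hxo hxc
  obtain ⟨-, -, -, -, -, hz''⟩ := h''.exists_moved hS hcl hNS hsyl hW hW'' hx hxo hxc
  obtain ⟨x₁, hx₁, hx₁o, v₁, hv₁, hbD⟩ := h'.symm hS hcl hNS hsyl hW hW'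
  obtain ⟨x₂, hx₂, hx₂o, v₂, hv₂, hb'D⟩ := h''.symm hS hcl hNS hsyl hW hW''
  obtain ⟨hb, hbc⟩ := hW'.commutator_central hS hcl hNS hsyl hx₁ hx₁o hv₁
  obtain ⟨hb', hb'c⟩ := hW''.commutator_central hS hcl hNS hsyl hx₂ hx₂o hv₂
  have hbb := (h'.symm hS hcl hNS hsyl hW hW').commutator_sq hS hcl hNS hsyl hW' hW hx₁ hx₁o hv₁
  have hb'b' := (h''.symm hS hcl hNS hsyl hW hW'').commutator_sq hS hcl hNS hsyl hW'' hW hx₂ hx₂o hv₂
  set b := ⁅x₁, v₁⁆
  set b' := ⁅x₂, v₂⁆
  have hbS := hW'.le hb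
  have hd : b⁻¹ * b' ∈ D := hW.mul_mem_of_not_mem hS hcl hNS hsyl hbS (hW''.le hb') hbD hb'D
  set d := b⁻¹ * b' with hddef
  by_cases hd' : d ∈ D'
  swap
  · exfalso
    set c := a⁻¹ * d with hc
    have hcD : c ∈ D := mul_mem (inv_mem haD) hd
    have hcD' : c ∈ D' := hW'.mul_mem_of_not_mem hS hcl hNS hsyl (hW.le haD) (hW.le hd) haD' hd'
    have hbc' : Commute b c := commute_of_mem_centralizer hbc hcD'
    have hac' : Commute a c := commute_of_mem_centralizer hac hcD
    have h1 : ⁅b, a⁆ * (c * c) = 1 := by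
      calc ⁅b, a⁆ * (c * c) = ⁅b, a⁆ * (a * a) * (c * c) := by rw [haa, mul_one]
        _ = ⁅b, a⁆ * a * (a * c) * c := by simp only [mul_assoc]
        _ = ⁅b, a⁆ * a * (c * a) * c := by rw [hac'.eq]
        _ = b * a * b⁻¹ * (b * c * b⁻¹) * (b * b) * a * c := by
            rw [conj_eq_commutator_mul, hbc'.eq, mul_inv_cancel_right, hbb, mul_one]
            simp only [mul_assoc]
        _ = b' * b' := by
            have e : b * (a * c) = b' := by simp only [hc, hddef]; group
            rw [← e]; group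
        _ = 1 := hb'b'
    refine hz' b hb hbD hbc a haD haD' ?_
    rw [eq_inv_of_mul_eq_one_left h1]
    exact (h'.commute_sq hS hcl hNS hsyl hW hW' hx hxo hcD).inv_right
  · have hb'D' : b' ∈ D' := by
      have e : b * d = b' := by simp only [hddef]; group
      rw [← e]; exact mul_mem hb hd'
    have hC : ∀ w ∈ D, w ∈ D' → w ∈ D'' := by
      intro w hw hw'
      by_contra hw''
      refine hz'' b' hb' hb'D hb'c w hw hw'' ?_
      have hdw : ∀ c ∈ S, Commute ⁅d, w⁆ c := hcl d (hW.le hd) w (hW.le hw)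
      have h1 : ⁅b', w⁆ = ⁅d, w⁆ := by
        have e : b * d = b' := by simp only [hddef]; group
        rw [← e, show ⁅b * d, w⁆ = b * ⁅d, w⁆ * b⁻¹ * ⁅b, w⁆ by
          simp only [_root_.commutatorElement_def]; group,
          commutatorElement_eq_one_iff_commute.2 (commute_of_mem_centralizer hbc hw'), mul_one,
          ← (hdw b hbS).eq, mul_inv_cancel_right]
      rw [h1]
      exact hW.commute_commutator hS hcl hNS hsyl hx hxo hd hw
    have hle : D' ≤ D'' := by
      intro w hw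
      by_cases hwD : w ∈ D
      · exact hC w hwD hw
      · have h1 := hC _ (hW.mul_mem_of_not_mem hS hcl hNS hsyl (hW''.le hb') (hW'.le hw) hb'D hwD)
          (mul_mem (inv_mem hb'D') hw)
        simpa using mul_mem hb' h1
    exact eq_of_le_of_card_ge hle (hW'.card_le D'' (hS.to_le hW''.le) hW''.moved)

omit hS hcl hNS hsyl in
/-- The main theorem on invariant Sylow `2`-subgroups of class two. -/
theorem hasNormalPComplement_two {A : Type*} [Group A] [Finite A] (φ : A →* MulAut G)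
    (hA : Odd (Nat.card A)) (P : Sylow 2 G) (hcl : ClassTwo (P : Subgroup G))
    (hP : ∀ a : A, (P : Subgroup G).map (φ a).toMonoidHom = P)
    (hN : ∀ X : Subgroup G, X ≤ P → X ≠ ⊥ → (P : Subgroup G) ≤ normalizer (X : Set G) →
      (∀ a : A, X.map (φ a).toMonoidHom = X) →
      ∀ g ∈ normalizer (X : Set G), Odd (orderOf g) → g ∈ centralizer ((P : Subgroup G) : Set G)) :
    Cfsg.HasNormalPComplement 2 G := by
  classical
  haveI : Fact (Nat.Prime 2) := ⟨Nat.prime_two⟩
  set S : Subgroup G := (P : Subgroup G) with hSdef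
  have hS : IsPGroup 2 S := P.2
  have hsyl : ∀ T : Subgroup G, IsPGroup 2 T → Nat.card T ≤ Nat.card S := by
    intro T hT
    obtain ⟨Q, hQ⟩ := hT.exists_le_sylow
    exact (card_le_of_le hQ).trans (Sylow.card_eq_multiplicity Q ▸ (Sylow.card_eq_multiplicity P).ge)
  refine CfsgLib.Fusion.hasNormalPComplement_of_locallyPNilpotentAction P fun Q hQ g hg hgo => ?_
  by_contra hgc
  have hmov : Moved Q := ⟨g, hg, Nat.coprime_two_right.1 hgo, hgc⟩
  -- move moved subgroups into `S`
  have hinto : ∀ T : Subgroup G, IsPGroup 2 T → Moved T →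
      ∃ T' : Subgroup G, T' ≤ S ∧ Moved T' ∧ Nat.card T' = Nat.card T := by
    intro T hT hm
    obtain ⟨R, hR⟩ := hT.exists_le_sylow
    obtain ⟨k, hk⟩ := MulAction.exists_smul_eq G R P
    have hk' : conjBy k (R : Subgroup G) = S := by rw [hSdef, ← hk]; rfl
    exact ⟨conjBy k T, hk' ▸ map_mono hR, hm.map (MulAut.conj k), card_conjBy k T⟩
  haveI : Nonempty {T : Subgroup G // T ≤ S ∧ Moved T} := ⟨⟨Q, hQ, hmov⟩⟩
  obtain ⟨⟨D, hDS, hDm⟩, hmax⟩ :=
    Finite.exists_max fun T : {T : Subgroup G // T ≤ S ∧ Moved T} => Nat.card T.1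
  have hW : Wild S D := ⟨hDS, hDm, fun T hT hm => by
    obtain ⟨T', h1, h2, h3⟩ := hinto T hT hm
    exact h3 ▸ hmax ⟨T', h1, h2⟩⟩
  have hSne : S ≠ ⊥ := fun e => by
    obtain ⟨x, -, -, hx⟩ := hDm
    refine hx (mem_centralizer_iff.2 fun u hu => ?_)
    rw [show u = 1 from mem_bot.1 (e ▸ hDS hu), one_mul, mul_one]
  have hNS := hN S le_rfl hSne le_normalizer hP
  -- the orbit of `D`
  let O : A → Subgroup G := fun a => D.map (φ a).toMonoidHom
  have hO : ∀ a, Wild S (O a) := fun a =>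
    ⟨hP a ▸ map_mono hDS, hDm.map (φ a), fun T hT hm => by
      rw [show Nat.card (O a) = Nat.card D from card_map_of_injective (φ a).injective]
      exact hW.card_le T hT hm⟩
  have hOmul : ∀ a b, (O b).map (φ a).toMonoidHom = O (a * b) := by
    intro a b
    show (D.map (φ b).toMonoidHom).map (φ a).toMonoidHom = D.map (φ (a * b)).toMonoidHom
    rw [Subgroup.map_map, map_mul]
    rfl
  have hex : ∀ a, ∃ b, Part (O a) (O b) := by
    intro a
    by_contra hno
    push Not at hno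
    set I := ⨅ b, O b with hI
    obtain ⟨x, hx, hxo, hxc⟩ := (hO a).moved
    have hIS : I ≤ S := (iInf_le O a).trans (hO a).le
    have hIne : I ≠ ⊥ := by
      haveI : Nontrivial S := (nontrivial_iff_ne_bot S).2 hSne
      haveI := hS.center_nontrivial
      obtain ⟨⟨⟨z, hz⟩, hzc⟩, hz1⟩ := exists_ne (1 : center S)
      intro e
      have : z ∈ I := mem_iInf.2 fun b => (hO b).mem_of_commute hS hz (mem_centralizer_iff.2 fun u hu =>
        congrArg Subtype.val (mem_center_iff.1 hzc ⟨u, (hO b).le hu⟩))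
      rw [e, mem_bot] at this
      exact hz1 (Subtype.ext (Subtype.ext this))
    have hIA : ∀ c : A, I.map (φ c).toMonoidHom = I := by
      intro c
      refine eq_of_le_of_card_ge (le_iInf fun b => ?_) (le_of_eq (card_map_of_injective (φ c).injective).symm)
      have h1 := map_mono (f := (φ c).toMonoidHom) (iInf_le O (c⁻¹ * b))
      rwa [hOmul, mul_inv_cancel_left] at h1
    have hSI : S ≤ normalizer (I : Set G) := by
      intro s hs
      refine mem_normalizer_iff.2 fun z => ?_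
      simp only [hI, mem_iInf]
      exact forall_congr' fun b => mem_normalizer_iff.1 ((hO b).le_normalizer_left hS hcl hs) z
    have hxI : x ∈ normalizer (I : Set G) := by
      rw [← conjBy_eq_self_iff]
      refine eq_of_le_of_card_ge ?_ (le_of_eq (card_conjBy x I).symm)
      rintro _ ⟨z, hz, rfl⟩
      show x * z * x⁻¹ ∈ I
      rw [conj_eq_commutator_mul]
      refine mul_mem (mem_iInf.2 fun b => ?_) hz
      by_contra hb
      exact hno b ⟨x, hx, hxo, z, mem_iInf.1 hz a, hb⟩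
    exact hxc (centralizer_le (SetLike.coe_subset_coe.2 (hO a).le) (hN I hIS hIne hSI hIA x hxI hxo))
  -- the partner map on the orbit
  let Ω := Set.range O
  have hexΩ : ∀ o : Ω, ∃ o' : Ω, Part (o : Subgroup G) (o' : Subgroup G) := by
    rintro ⟨_, a, rfl⟩
    obtain ⟨b, hb⟩ := hex a
    exact ⟨⟨O b, b, rfl⟩, hb⟩
  choose π hπ using hexΩ
  have hWΩ : ∀ o : Ω, Wild S (o : Subgroup G) := by rintro ⟨_, a, rfl⟩; exact hO a
  have hππ : Function.Involutive π := fun o => Subtype.ext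
    ((hπ (π o)).unique hS hcl hNS hsyl ((hπ o).symm hS hcl hNS hsyl (hWΩ _) (hWΩ _)) (hWΩ _) (hWΩ _) (hWΩ _))
  have hodd : Odd (Nat.card Ω) := by
    let St : Subgroup A :=
      { carrier := {a | O a = D}
        one_mem' := by
          show D.map (φ 1).toMonoidHom = D
          rw [map_one]; exact Subgroup.map_id D
        mul_mem' := fun {a b} ha hb => by
          show O (a * b) = D
          rw [← hOmul, show O b = D from hb]; exact ha
        inv_mem' := fun {a} ha => by
          show O a⁻¹ = D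
          have h1 := hOmul a⁻¹ a
          rw [show O a = D from ha, inv_mul_cancel] at h1
          exact h1.trans (by show D.map (φ 1).toMonoidHom = D; rw [map_one]; exact Subgroup.map_id D) }
    have e : A ⧸ St ≃ Ω := Equiv.ofBijective
      (Quotient.lift (fun a => (⟨O a, a, rfl⟩ : Ω)) fun a b hab => Subtype.ext (by
        show O a = O b
        have h1 : O (a⁻¹ * b) = D := QuotientGroup.leftRel_apply.1 hab
        have h2 := hOmul a (a⁻¹ * b)
        rw [h1, mul_inv_cancel_left] at h2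
        exact h2))
      ⟨by
        rintro ⟨a⟩ ⟨b⟩ hab
        refine Quotient.sound (QuotientGroup.leftRel_apply.2 ?_)
        show O (a⁻¹ * b) = D
        rw [← hOmul, ← show O a = O b from congrArg Subtype.val hab, hOmul, inv_mul_cancel]
        show D.map (φ 1).toMonoidHom = D
        rw [map_one]; exact Subgroup.map_id D,
       by rintro ⟨_, a, rfl⟩; exact ⟨QuotientGroup.mk a, rfl⟩⟩
    rw [← Nat.card_congr e]
    exact hA.of_dvd_nat (card_quotient_dvd_card St)
  letI : Fintype Ω := Fintype.ofFinite _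
  obtain ⟨o, ho⟩ := Equiv.Perm.exists_fixed_point_of_prime (p := 2) (n := 1)
    (σ := hππ.toPerm π) (by
      rw [← Nat.card_eq_fintype_card]; exact Nat.two_dvd_ne_zero.2 (Nat.odd_iff.1 hodd))
    (by ext o; simp [pow_two, hππ o])
  obtain ⟨y, hy, -, v, hv, hv'⟩ := hπ o
  refine hv' ?_
  rw [show π o = o from ho, show ⁅y, v⁆ = y * v * y⁻¹ * v⁻¹ from _root_.commutatorElement_def y v]
  exact mul_mem ((mem_normalizer_iff.1 hy v).1 hv) (inv_mem hv)

end CfsgLib.PGroup.CoprimeMax
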