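import Cfsg.Agent.Lib.PGroup.CoprimeMax.Local

/-!
# Pairs of largest moved subgroups

The commutator of an element of odd order with `D` is central in `D` and elementary abelian, `D`
has index two in `S`, and a second such subgroup `D'` not containing one of these commutators is
determined by `D`.
-/

set_option autoImplicit false

namespace CfsgLib.PGroup.CoprimeMax

open Subgroup CfsgLib.Coprime
open scoped commutatorElement

variable {G : Type*} [Group G]

/-- Elements normalizing `D` and `E` and centralizing `D` modulo `E`. -/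
def trivMod (D E : Subgroup G) : Subgroup G where
  carrier := {n | n ∈ normalizer (D : Set G) ∧ n ∈ normalizer (E : Set G) ∧ ∀ v ∈ D, ⁅n, v⁆ ∈ E}
  one_mem' := ⟨one_mem _, one_mem _, fun v _ => by simp⟩
  mul_mem' := by
    rintro a b ⟨ha, ha', hav⟩ ⟨hb, hb', hbv⟩
    refine ⟨mul_mem ha hb, mul_mem ha' hb', fun v hv => ?_⟩
    rw [show ⁅a * b, v⁆ = a * ⁅b, v⁆ * a⁻¹ * ⁅a, v⁆ by
      simp only [_root_.commutatorElement_def]; group]
    exact mul_mem ((mem_normalizer_iff.1 ha' _).1 (hbv v hv)) (hav v hv)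
  inv_mem' := by
    rintro a ⟨ha, ha', hav⟩
    refine ⟨inv_mem ha, inv_mem ha', fun v hv => ?_⟩
    rw [show ⁅a⁻¹, v⁆ = (a⁻¹ * ⁅a, v⁆ * a⁻¹⁻¹)⁻¹ by simp only [_root_.commutatorElement_def]; group]
    exact inv_mem ((mem_normalizer_iff.1 (inv_mem ha') _).1 (hav v hv))

theorem mem_trivMod {D E : Subgroup G} {n : G} : n ∈ trivMod D E ↔
    n ∈ normalizer (D : Set G) ∧ n ∈ normalizer (E : Set G) ∧ ∀ v ∈ D, ⁅n, v⁆ ∈ E := Iff.rfl

theorem conj_mem_trivMod {D E : Subgroup G} {g n : G} (hg : g ∈ normalizer (D : Set G))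
    (hg' : g ∈ normalizer (E : Set G)) (hn : n ∈ trivMod D E) : g * n * g⁻¹ ∈ trivMod D E := by
  obtain ⟨hn1, hn2, hn3⟩ := mem_trivMod.1 hn
  refine ⟨mul_mem (mul_mem hg hn1) (inv_mem hg), mul_mem (mul_mem hg' hn2) (inv_mem hg'), fun v hv => ?_⟩
  rw [show ⁅g * n * g⁻¹, v⁆ = g * ⁅n, g⁻¹ * v * g⁻¹⁻¹⁆ * g⁻¹ by
    simp only [_root_.commutatorElement_def]; group]
  exact (mem_normalizer_iff.1 hg' _).1 (hn3 _ ((mem_normalizer_iff.1 (inv_mem hg) v).1 hv))

theorem centralizer_le_trivMod {D E : Subgroup G} (hCE : centralizer (D : Set G) ≤ normalizer (E : Set G)) :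
    centralizer (D : Set G) ≤ trivMod D E := fun c hc =>
  ⟨centralizer_le_normalizer _ hc, hCE hc, fun v hv => by
    rw [commutatorElement_eq_one_iff_commute.2 (mem_centralizer_iff.1 hc v hv).symm]; exact one_mem E⟩

theorem commute_of_mem_centralizer {D : Subgroup G} {f v : G} (hf : f ∈ centralizer (D : Set G))
    (hv : v ∈ D) : Commute f v := (mem_centralizer_iff.1 hf v hv).symm

theorem conj_eq_commutator_mul (x v : G) : x * v * x⁻¹ = ⁅x, v⁆ * v := by
  simp only [_root_.commutatorElement_def]; group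

variable [Finite G] {S D : Subgroup G}

/-- An odd element centralizing a commutator with an element of a `2`-group centralizes the element. -/
theorem commutator_eq_one_of_fixed (hD : IsPGroup 2 D) {x v : G} (hodd : Odd (orderOf x))
    (hf : ⁅x, v⁆ ∈ D) (hfx : Commute x ⁅x, v⁆) : ⁅x, v⁆ = 1 := by
  have hi : ∀ i : ℕ, x ^ i * v * (x ^ i)⁻¹ = ⁅x, v⁆ ^ i * v := by
    intro i
    induction i with
    | zero => simp
    | succ i ih =>
      rw [show x ^ (i + 1) * v * (x ^ (i + 1))⁻¹ = x * (x ^ i * v * (x ^ i)⁻¹) * x⁻¹ by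
        rw [pow_succ']; group, ih]
      calc x * (⁅x, v⁆ ^ i * v) * x⁻¹ = (x * ⁅x, v⁆ ^ i) * v * x⁻¹ := by group
        _ = ⁅x, v⁆ ^ i * (x * v * x⁻¹) := by rw [(hfx.pow_right i).eq]; group
        _ = ⁅x, v⁆ ^ (i + 1) * v := by rw [conj_eq_commutator_mul, pow_succ, mul_assoc]
  have h1 := hi (orderOf x)
  rw [pow_orderOf_eq_one, one_mul, inv_one, mul_one] at h1
  obtain ⟨k, hk⟩ := hD ⟨⁅x, v⁆, hf⟩
  refine orderOf_eq_one_iff.1 (Nat.eq_one_of_dvd_coprimes
    ((Nat.coprime_two_left.2 hodd).pow_left k) (orderOf_dvd_of_pow_eq_one (congrArg Subtype.val hk))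
    (orderOf_dvd_of_pow_eq_one ?_))
  exact mul_right_cancel (h1.symm.trans (one_mul v).symm)

/-- The subgroup generated by the squares of elements of `D`. -/
def squares (D : Subgroup G) : Subgroup G := closure {z | ∃ v ∈ D, z = v * v}

omit [Finite G] in
theorem normalizer_le_normalizer_squares (D : Subgroup G) :
    normalizer (D : Set G) ≤ normalizer (squares D : Set G) := by
  have h : ∀ g ∈ normalizer (D : Set G), squares D ≤ (squares D).comap (MulAut.conj g).toMonoidHom := by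
    intro g hg
    refine (closure_le _).2 ?_
    rintro _ ⟨v, hv, rfl⟩
    refine subset_closure ⟨g * v * g⁻¹, (mem_normalizer_iff.1 hg v).1 hv, ?_⟩
    show g * (v * v) * g⁻¹ = g * v * g⁻¹ * (g * v * g⁻¹)
    group
  intro g hg
  refine mem_normalizer_iff.2 fun z => ⟨fun hz => h g hg hz, fun hz => ?_⟩
  have h1 : g⁻¹ * (g * z * g⁻¹) * g⁻¹⁻¹ ∈ squares D := h g⁻¹ (inv_mem hg) hz
  rwa [show g⁻¹ * (g * z * g⁻¹) * g⁻¹⁻¹ = z by group] at h1

/-- An odd element whose commutators with `D` are central and lie among the squares is trivial on `D`. -/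
theorem mem_centralizer_of_commutator_squares (hD : IsPGroup 2 D) {x : G}
    (hodd : Odd (orderOf x)) (hcen : ∀ v ∈ D, ⁅x, v⁆ ∈ D ∧ ⁅x, v⁆ ∈ centralizer (D : Set G))
    (hsq : ∀ v ∈ D, ⁅x, v⁆ ∈ squares D) : x ∈ centralizer (D : Set G) := by
  set U : Set G := {u | ∃ v ∈ D, u = ⁅x, v⁆}
  have hmul : ∀ v ∈ D, ∀ w ∈ D, ⁅x, v * w⁆ = ⁅x, v⁆ * ⁅x, w⁆ := by
    intro v hv w hw
    rw [show ⁅x, v * w⁆ = ⁅x, v⁆ * (v * ⁅x, w⁆ * v⁻¹) by simp only [_root_.commutatorElement_def]; group,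
      ← (commute_of_mem_centralizer (hcen w hw).2 hv).eq, mul_inv_cancel_right]
  -- `u ↦ ⁅x, u⁆` permutes `U`
  let f : U → U := fun u => ⟨⁅x, (u : G)⁆, u, by obtain ⟨v, hv, hu⟩ := u.2; rw [hu]; exact (hcen v hv).1, rfl⟩
  have hf : Function.Injective f := by
    rintro ⟨u, v, hv, rfl⟩ ⟨u', v', hv', rfl⟩ h
    have h' : ⁅x, ⁅x, v⁆⁆ = ⁅x, ⁅x, v'⁆⁆ := congrArg Subtype.val h
    have hw : v'⁻¹ * v ∈ D := mul_mem (inv_mem hv') hv
    have hvv : v = v' * (v'⁻¹ * v) := by group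
    rw [hvv, hmul _ hv' _ hw, hmul _ (hcen _ hv').1 _ (hcen _ hw).1, mul_eq_left] at h'
    have h3 := commutator_eq_one_of_fixed hD hodd (hcen _ hw).1 (commutatorElement_eq_one_iff_commute.1 h')
    refine Subtype.ext ?_
    show ⁅x, v⁆ = ⁅x, v'⁆
    rw [hvv, hmul _ hv' _ hw, h3, mul_one]
  have hsurj := Finite.surjective_of_injective hf
  -- every element of `U` is the square of one
  have key : ∀ z ∈ squares D, z ∈ D ∧ ∃ w ∈ D, ⁅x, z⁆ = ⁅x, w⁆ * ⁅x, w⁆ := by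
    intro z hz
    induction hz using closure_induction with
    | mem z hz => obtain ⟨v, hv, rfl⟩ := hz; exact ⟨mul_mem hv hv, v, hv, hmul v hv v hv⟩
    | one => exact ⟨one_mem D, 1, one_mem D, by simp⟩
    | mul a b _ _ iha ihb =>
      obtain ⟨ha, v, hv, h1⟩ := iha
      obtain ⟨hb, w, hw, h2⟩ := ihb
      refine ⟨mul_mem ha hb, v * w, mul_mem hv hw, ?_⟩
      rw [hmul a ha b hb, h1, h2, hmul v hv w hw]
      exact (commute_of_mem_centralizer (hcen v hv).2 (hcen w hw).1).mul_mul_mul_comm _ _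
    | inv a _ iha =>
      obtain ⟨ha, v, hv, h1⟩ := iha
      have hinv : ∀ a ∈ D, ⁅x, a⁻¹⁆ = ⁅x, a⁆⁻¹ := fun a ha => by
        rw [eq_inv_iff_mul_eq_one, ← hmul _ (inv_mem ha) _ ha]; simp
      exact ⟨inv_mem ha, v⁻¹, inv_mem hv, by rw [hinv a ha, h1, hinv v hv, mul_inv_rev]⟩
  have hU : ∀ u ∈ U, ∃ w ∈ U, u = w * w := by
    intro u hu
    obtain ⟨⟨u', v, hv, rfl⟩, h⟩ := hsurj ⟨u, hu⟩
    obtain ⟨-, w, hw, h2⟩ := key _ (hsq v hv)
    exact ⟨_, ⟨w, hw, rfl⟩, (congrArg Subtype.val h).symm.trans h2⟩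
  have hUk : ∀ k : ℕ, ∀ u ∈ U, ∃ w ∈ U, u = w ^ 2 ^ k := by
    intro k
    induction k with
    | zero => exact fun u hu => ⟨u, hu, by simp⟩
    | succ k ih =>
      intro u hu
      obtain ⟨w, hw, rfl⟩ := ih u hu
      obtain ⟨w', hw', rfl⟩ := hU w hw
      exact ⟨w', hw', by rw [← pow_two, ← pow_mul, ← pow_succ']⟩
  refine mem_centralizer_iff.2 fun v hv => (commutatorElement_eq_one_iff_commute.1 ?_).eq.symm
  obtain ⟨n, hn⟩ := IsPGroup.iff_card.1 hD
  obtain ⟨w, ⟨v', hv', rfl⟩, hw⟩ := hUk n _ ⟨v, hv, rfl⟩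
  rw [hw, ← hn]
  exact congrArg Subtype.val (pow_card_eq_one' (x := (⟨_, (hcen v' hv').1⟩ : D)))

variable (hS : IsPGroup 2 S) (hcl : ClassTwo S)
  (hNS : ∀ g ∈ normalizer (S : Set G), Odd (orderOf g) → g ∈ centralizer (S : Set G))
  (hsyl : ∀ T : Subgroup G, IsPGroup 2 T → Nat.card T ≤ Nat.card S)
include hS hcl hNS hsyl

/-- Commutators of `D` with odd elements of its normalizer are central in `D`. -/
theorem Wild.commutator_central (hW : Wild S D) {x : G} (hx : x ∈ normalizer (D : Set G))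
    (hodd : Odd (orderOf x)) {v : G} (hv : v ∈ D) :
    ⁅x, v⁆ ∈ D ∧ ⁅x, v⁆ ∈ centralizer (D : Set G) := by
  refine mem_inf.1 ?_
  obtain ⟨t, ht, htD, htt⟩ := hW.exists_inverting hS hcl hNS hsyl
  set E := D ⊓ centralizer (D : Set G) with hE
  have hN : normalizer (D : Set G) ≤ normalizer (E : Set G) :=
    inf_le_normalizer le_rfl (normalizer_le_normalizer_centralizer D)
  have hSE : ∀ s ∈ S, s ∈ trivMod D E := fun s hs =>
    ⟨hW.le_normalizer_left hS hcl hs, hN (hW.le_normalizer_left hS hcl hs), fun w hw =>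
      mem_inf.2 ⟨hW.commutator_mem hS hcl hs (hW.le hw), hW.commutator_mem_centralizer hS hcl hs (hW.le hw)⟩⟩
  have hC0 : centralizer (D : Set G) ⊔ D ≤ trivMod D E :=
    sup_le (centralizer_le_trivMod ((centralizer_le_normalizer _).trans hN)) fun w hw => hSE w (hW.le hw)
  have h1 := hC0 (hW.inverts_of_sq_mem hS hcl hNS hsyl ht htD htt hx hodd)
  have h2 := conj_mem_trivMod hx (hN hx) (inv_mem (hSE t ht))
  have h3 := mul_mem (mul_mem (inv_mem h2) (inv_mem (hSE t ht))) h1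
  have h4 : x * x ∈ trivMod D E := by
    rwa [show (x * t⁻¹ * x⁻¹)⁻¹ * t⁻¹ * (t * x * t⁻¹ * x) = x * t * t⁻¹ * x by group,
      mul_inv_cancel_right] at h3
  exact (mem_trivMod.1 (mem_of_sq_mem hodd h4)).2.2 v hv

/-- Odd elements of the normalizer centralize the commutators of `D`. -/
theorem Wild.commute_commutator (hW : Wild S D) {x : G} (hx : x ∈ normalizer (D : Set G))
    (hodd : Odd (orderOf x)) {u v : G} (hu : u ∈ D) (hv : v ∈ D) : Commute x ⁅u, v⁆ := by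
  have hc := fun {w : G} (hw : w ∈ D) => hW.commutator_central hS hcl hNS hsyl hx hodd hw
  have h1 : Commute (⁅x, u⁆) v := commute_of_mem_centralizer (hc hu).2 hv
  have h2 : Commute (⁅x, v⁆) u := commute_of_mem_centralizer (hc hv).2 hu
  have h3 : Commute (⁅x, v⁆) ⁅x, u⁆ := commute_of_mem_centralizer (hc hv).2 (hc hu).1
  have h4 : x * ⁅u, v⁆ * x⁻¹ = ⁅u, v⁆ := by
    calc x * ⁅u, v⁆ * x⁻¹ = ⁅x * u * x⁻¹, x * v * x⁻¹⁆ := by
          simp only [_root_.commutatorElement_def]; group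
      _ = ⁅⁅x, u⁆ * u, ⁅x, v⁆ * v⁆ := by rw [conj_eq_commutator_mul, conj_eq_commutator_mul]
      _ = ⁅u, v⁆ := by
          set a := ⁅x, u⁆
          set b := ⁅x, v⁆
          have ha : Commute a u := commute_of_mem_centralizer (hc hu).2 hu
          have hb : Commute b v := commute_of_mem_centralizer (hc hv).2 hv
          simp only [_root_.commutatorElement_def, mul_inv_rev]
          calc a * u * (b * v) * (u⁻¹ * a⁻¹) * (v⁻¹ * b⁻¹) = a * (u * b) * v * u⁻¹ * (a⁻¹ * v⁻¹) * b⁻¹ := by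
                simp only [mul_assoc]
            _ = a * (b * u) * v * u⁻¹ * (v⁻¹ * a⁻¹) * b⁻¹ := by rw [← h2.eq, h1.inv_inv.eq]
            _ = (a * b) * (u * v * u⁻¹ * v⁻¹) * (b * a)⁻¹ := by group
            _ = (a * b) * (u * v * u⁻¹ * v⁻¹) * (a * b)⁻¹ := by rw [h3.eq]
            _ = u * v * u⁻¹ * v⁻¹ := by
              have hab : Commute (a * b) (u * v * u⁻¹ * v⁻¹) :=
                ((((ha.mul_left h2).mul_right (h1.mul_left hb)).mul_right
                  (ha.mul_left h2).inv_right).mul_right (h1.mul_left hb).inv_right)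
              rw [hab.eq, mul_inv_cancel_right]
  exact mul_inv_eq_iff_eq_mul.1 h4

/-- Two elements of `S` outside `D` multiply into `D`. -/
theorem Wild.sq_mem (hW : Wild S D) {s : G} (hs : s ∈ S) : s * s ∈ D := by
  by_contra hsD
  obtain ⟨g, hg, hgo, hgc⟩ := hW.moved
  refine hgc ?_
  set u := s * s
  set W := trivMod D (squares D) with hWdef
  have hN := normalizer_le_normalizer_squares D
  have hSL := hW.le_normalizer_left hS hcl
  have hclass : ∀ a ∈ S, ∀ v ∈ D, ⁅a * a, v⁆ ∈ squares D := by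
    intro a ha v hv
    have hc : Commute ⁅a, v⁆ a := hcl a ha v (hW.le hv) a ha
    rw [show ⁅a * a, v⁆ = a * ⁅a, v⁆ * a⁻¹ * ⁅a, v⁆ by simp only [_root_.commutatorElement_def]; group,
      ← hc.eq, mul_inv_cancel_right]
    exact subset_closure ⟨_, hW.commutator_mem hS hcl ha (hW.le hv), rfl⟩
  have huW : u ∈ W := ⟨hSL (mul_mem hs hs), hN (hSL (mul_mem hs hs)), hclass s hs⟩
  have hDW : D ≤ W := fun d hd => ⟨le_normalizer hd, hN (le_normalizer hd), fun v hv => by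
    rw [show ⁅d, v⁆ = (d * v) * (d * v) * ((v⁻¹ * d⁻¹ * v) * (v⁻¹ * d⁻¹ * v)) * (v⁻¹ * v⁻¹) by
      simp only [_root_.commutatorElement_def]; group]
    exact mul_mem (mul_mem (subset_closure ⟨_, mul_mem hd hv, rfl⟩)
      (subset_closure ⟨_, mul_mem (mul_mem (inv_mem hv) (inv_mem hd)) hv, rfl⟩))
      (subset_closure ⟨_, inv_mem hv, rfl⟩)⟩
  have hRS : D ⊔ zpowers u ≤ S := sup_le hW.le (zpowers_le.2 (mul_mem hs hs))
  refine hW.mem_centralizer_of_normalizes (Y := W)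
    (centralizer_le_trivMod ((centralizer_le_normalizer _).trans hN)) (fun z hz => hz.1)
    (hS.to_le hRS) (sup_le hDW (zpowers_le.2 huW))
    (lt_of_le_of_ne le_sup_left fun e => hsD (e ▸ mem_sup_right (mem_zpowers u)))
    (fun z hz hzo => mem_centralizer_of_commutator_squares (hS.to_le hW.le) hzo
      (fun v hv => hW.commutator_central hS hcl hNS hsyl hz.1 hzo hv) hz.2.2) hg hgo ?_
  refine mem_normalizer_iff.2 fun z => ⟨fun hz => conj_mem_trivMod hg (hN hg) hz, fun hz => ?_⟩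
  have h1 := conj_mem_trivMod (inv_mem hg) (hN (inv_mem hg)) hz
  rwa [show g⁻¹ * (g * z * g⁻¹) * g⁻¹⁻¹ = z by group] at h1

theorem Wild.inverts (hW : Wild S D) {t : G} (ht : t ∈ S) (htD : t ∉ D) {x : G}
    (hx : x ∈ normalizer (D : Set G)) (hxo : Odd (orderOf x)) :
    t * x * t⁻¹ * x ∈ centralizer (D : Set G) ⊔ D :=
  hW.inverts_of_sq_mem hS hcl hNS hsyl ht htD (hW.sq_mem hS hcl hNS hsyl ht) hx hxo

/-- `D` has index two in `S`. -/
theorem Wild.mul_mem_of_not_mem (hW : Wild S D) {u v : G} (hu : u ∈ S) (hv : v ∈ S) (huD : u ∉ D)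
    (hvD : v ∉ D) : u⁻¹ * v ∈ D := by
  by_contra huv
  obtain ⟨g, hg, hgo, hgc⟩ := hW.moved
  refine hgc (hW.eq_of_fixed hS hcl (mul_mem (inv_mem hu) hv) huv hg hgo ?_)
  have hw := hW.inverts hS hcl hNS hsyl hu huD hg hgo
  have hw' := hW.inverts hS hcl hNS hsyl hv hvD hg hgo
  set C0 := centralizer (D : Set G) ⊔ D
  have hN : normalizer (D : Set G) ≤ normalizer (C0 : Set G) :=
    sup_le_normalizer (normalizer_le_normalizer_centralizer D) le_rfl
  have hconj : ∀ {a z : G}, a ∈ normalizer (D : Set G) → z ∈ C0 → a * z * a⁻¹ ∈ C0 :=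
    fun ha hz => (mem_normalizer_iff.1 (hN ha) _).1 hz
  have huN := hW.le_normalizer_left hS hcl hu
  -- both conjugate `g` to `g⁻¹` modulo `D C(D)`
  have h1 := mul_mem hw (inv_mem hw')
  have h2 := hconj (inv_mem huN) h1
  have h3 : g * (u⁻¹ * v) * g⁻¹ * (u⁻¹ * v)⁻¹ ∈ C0 := by
    rwa [show u⁻¹ * (u * g * u⁻¹ * g * (v * g * v⁻¹ * g)⁻¹) * u⁻¹⁻¹ = g * (u⁻¹ * v) * g⁻¹ * (u⁻¹ * v)⁻¹ by
      group] at h2
  exact h3

/-- The action of a conjugate of an odd element by an element of `S` outside `D`. -/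
theorem Wild.inverts_apply (hW : Wild S D) {t : G} (ht : t ∈ S) (htD : t ∉ D) {x : G}
    (hx : x ∈ normalizer (D : Set G)) (hxo : Odd (orderOf x)) :
    ∃ d ∈ D, ∀ v ∈ D, t * x * t⁻¹ * v * (t * x * t⁻¹)⁻¹ = d * (x⁻¹ * v * x) * d⁻¹ := by
  have h := hW.inverts hS hcl hNS hsyl ht htD hx hxo
  obtain ⟨c, hc, d, hd, hcd⟩ := mem_sup_exists
    (le_normalizer.trans (normalizer_le_normalizer_centralizer D)) h
  refine ⟨d, hd, fun v hv => ?_⟩
  have hv' : x⁻¹ * v * x ∈ D := by simpa using (mem_normalizer_iff.1 (inv_mem hx) v).1 hv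
  have hw : d * (x⁻¹ * v * x) * d⁻¹ ∈ D := mul_mem (mul_mem hd hv') (inv_mem hd)
  calc t * x * t⁻¹ * v * (t * x * t⁻¹)⁻¹ =
      (t * x * t⁻¹ * x) * (x⁻¹ * v * x) * (t * x * t⁻¹ * x)⁻¹ := by group
    _ = c * (d * (x⁻¹ * v * x) * d⁻¹) * c⁻¹ := by rw [← hcd]; group
    _ = _ := by rw [(commute_of_mem_centralizer hc hw).eq, mul_inv_cancel_right]

end CfsgLib.PGroup.CoprimeMax
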